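import Mathlib

/-!
Certificates for coset tables over any letters: every edge of the table is either a tree edge or follows from earlier
edges around a relator cycle.
-/

set_option autoImplicit false

namespace Cfsg.Lib.CosetTable

/-- A binary tree of packed natural numbers. -/
inductive BT
  | leaf (v : ℕ)
  | node (l r : BT)

/-- The leaf with the given index in a tree of the given depth. -/
def BT.get : BT → ℕ → ℕ → ℕ
  | .leaf v, _, _ => v
  | .node l r, d, i => match d with
    | 0 => 0
    | d + 1 => if (i >>> d) % 2 = 0 then l.get d i else r.get d i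

/-- A field of a packed table with 64 fields a leaf. -/
def lookup (t : BT) (d w i : ℕ) : ℕ := (t.get d (i / 64) >>> (w * (i % 64))) % 2 ^ w

/-- A certificate. -/
structure Cert where
  ng : ℕ
  iv : List ℕ
  n : ℕ
  m : ℕ
  depth : ℕ
  ent : BT
  par : BT
  stp : BT
  rels : List (List ℕ)
  subs : List (List ℕ)

variable (C : Cert)

/-- The inverse of a letter. -/
def Cert.inv (l : ℕ) : ℕ := C.iv.getD l 0
/-- The table. -/
def Cert.tgt (c l : ℕ) : ℕ := lookup C.ent C.depth 48 (c * C.ng + l) % 2 ^ 24
/-- The step which gives an entry. -/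
def Cert.tm (c l : ℕ) : ℕ := lookup C.ent C.depth 48 (c * C.ng + l) / 2 ^ 24
/-- The data of a step. -/
def Cert.code (i : ℕ) : ℕ := lookup C.stp C.depth 72 i
/-- The source of a step. -/
def Cert.su (i : ℕ) : ℕ := C.code i % 2 ^ 24
/-- The letter of a step. -/
def Cert.sl (i : ℕ) : ℕ := C.code i / 2 ^ 24 % 2 ^ 4
/-- The position in the relator, plus one; zero for a tree edge. -/
def Cert.sp (i : ℕ) : ℕ := C.code i / 2 ^ 28 % 2 ^ 12
/-- The number of the relator. -/
def Cert.sr (i : ℕ) : ℕ := C.code i / 2 ^ 40 % 2 ^ 8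
/-- The start of the relator cycle. -/
def Cert.sc (i : ℕ) : ℕ := C.code i / 2 ^ 48

/-- An entry is unused or agrees with its step. -/
def Cert.entOK (c l : ℕ) : Bool :=
  let t := C.tm c l
  decide (C.m ≤ t) || (decide (C.tgt c l < C.n) &&
    ((C.su t == c && C.sl t == l) ||
      (C.tgt (C.su t) (C.sl t) == c && C.inv (C.sl t) == l && C.tgt c l == C.su t)))

/-- The next coset of an entry given before the bound. -/
def next? (bound e : ℕ) : Option ℕ := if e / 2 ^ 24 < bound then some (e % 2 ^ 24) else none

/-- Follow a word through entries given before the bound. -/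
def Cert.walk (bound : ℕ) : List ℕ → ℕ → Option ℕ
  | [], c => some c
  | l :: w, c => match next? bound (lookup C.ent C.depth 48 (c * C.ng + l)) with
    | some d => Cert.walk bound w d
    | none => none

/-- The word of a step. -/
def Cert.word (k : ℕ) : List ℕ :=
  if k < C.rels.length then C.rels.getD k [] else C.subs.getD (k - C.rels.length) []

/-- A step is a tree edge or the missing edge of a cycle. -/
def Cert.stepOK (i : ℕ) : Bool :=
  let u := C.su i
  let l := C.sl i
  let v := C.tgt u l
  decide (l < C.ng) &&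
    if C.sp i = 0 then decide (u < v) && (lookup C.par C.depth 28 v == u + 2 ^ 24 * l)
    else
      let k := C.sr i
      let c := C.sc i
      let p := C.sp i - 1
      let r := C.word k
      (decide (k < C.rels.length) || c == 0) && decide (c < C.n) && decide (v < C.n) &&
        decide (p < r.length) && (r.getD p 0 == l) &&
        (C.walk i (r.take p) c == some u) && (C.walk i (r.drop (p + 1)) v == some c)

/-- A block of steps. -/
def Cert.stepsOK (a len : ℕ) : Bool := (List.range' a len).all C.stepOK

/-- A block of rows has consistent entries. -/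
def Cert.entsOK (a len : ℕ) : Bool :=
  (List.range' a len).all fun c => (List.range C.ng).all fun l => C.entOK c l

/-- A block of rows of the table is complete. -/
def Cert.rowsOK (a len : ℕ) : Bool :=
  (List.range' a len).all fun c => (List.range C.ng).all fun l => decide (C.tm c l < C.m)

/-- All words use letters of the table. -/
def Cert.lettersOK : Bool := (C.rels ++ C.subs).all fun r => r.all fun l => decide (l < C.ng)

/-- The checks of a certificate. -/
structure Cert.Valid : Prop where
  pos : 0 < C.n
  letters : C.lettersOK = true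
  steps : C.stepsOK 0 C.m = true
  ents : C.entsOK 0 C.n = true

/-- The representative of a coset. -/
def Cert.rep {G : Type*} [Group G] (im : ℕ → G) (v : ℕ) : G :=
  if h : lookup C.par C.depth 28 v % 2 ^ 24 < v then
    Cert.rep im (lookup C.par C.depth 28 v % 2 ^ 24) * im (lookup C.par C.depth 28 v / 2 ^ 24)
  else 1
  termination_by v
  decreasing_by exact h

/-- The value of a word. -/
def wval {G : Type*} [Group G] (im : ℕ → G) (w : List ℕ) : G := (w.map im).prod

variable {G : Type*} [Group G] (im : ℕ → G) (K : Subgroup G)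

/-- An edge of the table is true in the group. -/
def Cert.Holds (u l : ℕ) : Prop := C.rep im u * im l * (C.rep im (C.tgt u l))⁻¹ ∈ K

theorem rep_zero : C.rep im 0 = 1 := by
  rw [Cert.rep, dif_neg (Nat.not_lt_zero _)]

theorem ent_ok (hV : C.Valid) {c l : ℕ} (hc : c < C.n) (hl : l < C.ng) : C.entOK c l = true :=
  List.all_eq_true.1 (List.all_eq_true.1 hV.ents c (List.mem_range'_1.2 ⟨Nat.zero_le c, by omega⟩)) l
    (List.mem_range.2 hl)

theorem edge_holds (hV : C.Valid) (hinv : ∀ l < C.ng, im (C.inv l) = (im l)⁻¹) {bound : ℕ} (hb : bound ≤ C.m)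
    (h : ∀ i < bound, C.sl i < C.ng ∧ C.Holds im K (C.su i) (C.sl i)) {c l : ℕ} (hc : c < C.n) (hl : l < C.ng)
    (ht : C.tm c l < bound) : C.tgt c l < C.n ∧ C.Holds im K c l := by
  have he := ent_ok C hV hc hl
  simp only [Cert.entOK, Bool.and_eq_true, Bool.or_eq_true, decide_eq_true_eq, beq_iff_eq] at he
  obtain ⟨hd, he⟩ := he.resolve_left (by omega)
  refine ⟨hd, ?_⟩
  obtain ⟨hs, hh⟩ := h _ ht
  generalize C.tm c l = t at he hs hh
  rcases he with ⟨hu, hl⟩ | ⟨⟨hv, hl⟩, hc⟩
  · rw [hu, hl] at hh
    exact hh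
  · rw [Cert.Holds, hv] at hh
    rw [Cert.Holds, hc, ← hl, hinv _ hs]
    have := K.inv_mem hh
    rwa [mul_inv_rev, mul_inv_rev, inv_inv, ← mul_assoc] at this

theorem walk_holds (hV : C.Valid) (hinv : ∀ l < C.ng, im (C.inv l) = (im l)⁻¹) {bound : ℕ} (hb : bound ≤ C.m)
    (h : ∀ i < bound, C.sl i < C.ng ∧ C.Holds im K (C.su i) (C.sl i)) :
    ∀ (w : List ℕ) (c d : ℕ), c < C.n → (∀ l ∈ w, l < C.ng) → C.walk bound w c = some d →
      C.rep im c * wval im w * (C.rep im d)⁻¹ ∈ K
  | [], c, d, _, _, hw => by
    simp only [Cert.walk, Option.some.injEq] at hw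
    subst hw
    simp [wval, K.one_mem]
  | l :: w, c, d, hc, hlt, hw => by
    simp only [Cert.walk, next?] at hw
    by_cases ht : C.tm c l < bound
    · rw [Cert.tm] at ht
      rw [if_pos ht] at hw
      obtain ⟨hn, h1⟩ := edge_holds C im K hV hinv hb h hc (hlt l List.mem_cons_self) ht
      have h2 := walk_holds hV hinv hb h w _ _ hn (fun a ha => hlt a (List.mem_cons_of_mem l ha)) hw
      rw [Cert.Holds] at h1
      convert K.mul_mem h1 h2 using 1
      simp [wval, mul_assoc]
    · rw [Cert.tm] at ht
      rw [if_neg ht] at hw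
      simp at hw

/-- The hypotheses on the letters. -/
structure Cert.Sound : Prop where
  inv : ∀ l < C.ng, im (C.inv l) = (im l)⁻¹
  inv_lt : ∀ l < C.ng, C.inv l < C.ng
  rel : ∀ r ∈ C.rels, wval im r = 1
  sub : ∀ r ∈ C.subs, wval im r ∈ K

theorem step_holds (hV : C.Valid) (hS : C.Sound im K) {i : ℕ} (hb : i ≤ C.m)
    (h : ∀ j < i, C.sl j < C.ng ∧ C.Holds im K (C.su j) (C.sl j)) (hi : C.stepOK i = true) :
    C.sl i < C.ng ∧ C.Holds im K (C.su i) (C.sl i) := by
  simp only [Cert.stepOK, Bool.and_eq_true, decide_eq_true_eq] at hi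
  refine ⟨hi.1, ?_⟩
  obtain ⟨-, hi⟩ := hi
  split_ifs at hi with hp
  · simp only [Bool.and_eq_true, decide_eq_true_eq, beq_iff_eq] at hi
    obtain ⟨huv, hpar⟩ := hi
    have hu : C.su i < 2 ^ 24 := Nat.mod_lt _ (by norm_num)
    have e1 : lookup C.par C.depth 28 (C.tgt (C.su i) (C.sl i)) % 2 ^ 24 = C.su i := by
      rw [hpar]; omega
    have e2 : lookup C.par C.depth 28 (C.tgt (C.su i) (C.sl i)) / 2 ^ 24 = C.sl i := by
      rw [hpar]; omega
    have e : C.rep im (C.tgt (C.su i) (C.sl i)) = C.rep im (C.su i) * im (C.sl i) := by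
      conv_lhs => rw [Cert.rep]
      rw [dif_pos (by rw [e1]; exact huv), e1, e2]
    rw [Cert.Holds, e, mul_inv_cancel]
    exact K.one_mem
  · simp only [Bool.and_eq_true, Bool.or_eq_true, decide_eq_true_eq, beq_iff_eq] at hi
    obtain ⟨⟨⟨⟨⟨⟨hk, hcn⟩, hvn⟩, hlen⟩, hl⟩, h1⟩, h2⟩ := hi
    set r := C.word (C.sr i) with hr
    set p := C.sp i - 1
    have hlet : ∀ a ∈ r, a < C.ng := by
      intro a ha
      have hL := hV.letters
      simp only [Cert.lettersOK, List.all_eq_true, decide_eq_true_eq] at hL
      rw [hr, Cert.word] at ha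
      split_ifs at ha with hlt
      · rw [List.getD_eq_getElem _ _ hlt] at ha
        exact hL _ (List.mem_append_left _ (List.getElem_mem hlt)) a ha
      · rcases lt_or_ge (C.sr i - C.rels.length) C.subs.length with h' | h'
        · rw [List.getD_eq_getElem _ _ h'] at ha
          exact hL _ (List.mem_append_right _ (List.getElem_mem h')) a ha
        · rw [List.getD_eq_default _ _ h'] at ha
          simp at ha
    have m1 := walk_holds C im K hV hS.inv hb h _ _ _ hcn (fun a ha => hlet a (List.mem_of_mem_take ha)) h1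
    have m2 := walk_holds C im K hV hS.inv hb h _ _ _ hvn (fun a ha => hlet a (List.mem_of_mem_drop ha)) h2
    have hrv : C.rep im (C.sc i) * wval im r * (C.rep im (C.sc i))⁻¹ ∈ K := by
      rcases lt_or_ge (C.sr i) C.rels.length with hlt | hge
      · have : wval im r = 1 := by
          refine hS.rel r ?_
          rw [hr, Cert.word, if_pos hlt, List.getD_eq_getElem _ _ hlt]
          exact List.getElem_mem hlt
        rw [this, mul_one, mul_inv_cancel]
        exact K.one_mem
      · have h0 : C.sc i = 0 := hk.resolve_left (by omega)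
        rw [h0, rep_zero, one_mul, inv_one, mul_one]
        rw [hr, Cert.word, if_neg (by omega)]
        rcases lt_or_ge (C.sr i - C.rels.length) C.subs.length with hlt | hge'
        · rw [List.getD_eq_getElem _ _ hlt]
          exact hS.sub _ (List.getElem_mem hlt)
        · rw [List.getD_eq_default _ _ hge']
          simp [wval, K.one_mem]
    have hsplit : wval im r = wval im (r.take p) * im (C.sl i) * wval im (r.drop (p + 1)) := by
      rw [List.getD_eq_getElem _ _ hlen] at hl
      conv_lhs => rw [← List.take_append_drop p r, List.drop_eq_getElem_cons hlen, hl]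
      simp [wval, mul_assoc]
    rw [hsplit] at hrv
    have := K.mul_mem (K.mul_mem (K.inv_mem m1) hrv) (K.inv_mem m2)
    rw [Cert.Holds]
    convert this using 1
    group

theorem steps_holds (hV : C.Valid) (hS : C.Sound im K) :
    ∀ i < C.m, C.sl i < C.ng ∧ C.Holds im K (C.su i) (C.sl i) := by
  intro i
  induction i using Nat.strong_induction_on with
  | _ i ih =>
    exact fun hi => step_holds C im K hV hS hi.le (fun j hj => ih j hj (hj.trans hi))
      (List.all_eq_true.1 hV.steps i (List.mem_range'_1.2 ⟨Nat.zero_le i, by omega⟩))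

/-- A closed walk through proved entries gives membership. -/
theorem word_mem (hV : C.Valid) (hS : C.Sound im K) {w : List ℕ} (hl : (w.all fun l => decide (l < C.ng)) = true)
    (hw : C.walk C.m w 0 = some 0) : wval im w ∈ K := by
  simpa [rep_zero] using walk_holds C im K hV hS.inv le_rfl (steps_holds C im K hV hS) w 0 0 hV.pos
    (fun a ha => by simpa using List.all_eq_true.1 hl a ha) hw

theorem stepsOK_cat {a b c : ℕ} (h1 : C.stepsOK a b = true) (h2 : C.stepsOK (a + b) c = true) :
    C.stepsOK a (b + c) = true := by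
  rw [Cert.stepsOK] at *
  rw [← List.range'_append_1, List.all_append, h1, h2]
  rfl

theorem rowsOK_cat {a b c : ℕ} (h1 : C.rowsOK a b = true) (h2 : C.rowsOK (a + b) c = true) :
    C.rowsOK a (b + c) = true := by
  rw [Cert.rowsOK] at *
  rw [← List.range'_append_1, List.all_append, h1, h2]
  rfl

theorem entsOK_cat {a b c : ℕ} (h1 : C.entsOK a b = true) (h2 : C.entsOK (a + b) c = true) :
    C.entsOK a (b + c) = true := by
  rw [Cert.entsOK] at *
  rw [← List.range'_append_1, List.all_append, h1, h2]
  rfl

/-- The order bound. -/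
theorem card_le (hV : C.Valid) (hS : C.Sound im K) (hrows : C.rowsOK 0 C.n = true) [Finite K] {L : Subgroup G}
    (hL : L ≤ Subgroup.closure (im '' Set.Iio C.ng)) : Finite L ∧ Nat.card L ≤ C.n * Nat.card K := by
  have hold := steps_holds C im K hV hS
  have hn := hV.pos
  have step : ∀ c < C.n, ∀ l < C.ng, C.tgt c l < C.n ∧ C.Holds im K c l := fun c hc l hl => by
    have h := List.all_eq_true.1 (List.all_eq_true.1 hrows c (List.mem_range'_1.2 ⟨Nat.zero_le c, by omega⟩)) l
      (List.mem_range.2 hl)
    exact edge_holds C im K hV hS.inv le_rfl hold hc hl (of_decide_eq_true h)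
  have cover : ∀ g ∈ L, ∃ c < C.n, g * (C.rep im c)⁻¹ ∈ K := by
    intro g hg
    replace hg := hL hg
    induction hg using Subgroup.closure_induction_right with
    | one => exact ⟨0, hn, by simp [rep_zero, K.one_mem]⟩
    | mul_right a b _ hb ih =>
      obtain ⟨l, hl, rfl⟩ := hb
      obtain ⟨c, hc, hac⟩ := ih
      obtain ⟨hd, hh⟩ := step c hc l hl
      refine ⟨_, hd, ?_⟩
      convert K.mul_mem hac hh using 1
      group
    | mul_inv_cancel a b _ hb ih =>
      obtain ⟨l, hl, rfl⟩ := hb
      obtain ⟨c, hc, hac⟩ := ih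
      rw [← hS.inv l hl]
      obtain ⟨hd, hh⟩ := step c hc _ (hS.inv_lt l hl)
      refine ⟨_, hd, ?_⟩
      convert K.mul_mem hac hh using 1
      group
  choose k hk hmem using fun g : L => cover g g.2
  let f : L → Fin C.n × K := fun g => (⟨k g, hk g⟩, ⟨_, hmem g⟩)
  have hf : Function.Injective f := fun a b h => by
    simp only [f, Prod.mk.injEq, Fin.mk.injEq, Subtype.mk.injEq] at h
    have e := h.2
    rw [h.1] at e
    exact Subtype.ext (mul_right_cancel e)
  refine ⟨Finite.of_injective f hf, (Nat.card_le_card_of_injective f hf).trans ?_⟩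
  rw [Nat.card_prod, Nat.card_eq_fintype_card (α := Fin C.n), Fintype.card_fin]

/-- A list of cosets is closed under some words, and starts with the coset of the identity. -/
def Cert.closedOK (cs : List ℕ) (ws : List (List ℕ)) : Bool :=
  cs.contains 0 && (ws.all fun w => w.all fun l => decide (l < C.ng)) &&
    cs.all fun c => decide (c < C.n) && ws.all fun w => (C.walk C.m w c).any fun d => cs.contains d

/-- A closed list of cosets bounds the group generated by the words. -/
theorem card_le_words (hV : C.Valid) (hS : C.Sound im K) {cs : List ℕ} {ws : List (List ℕ)}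
    (hcl : C.closedOK cs ws = true) (hwinv : ∀ w ∈ ws, ∃ w' ∈ ws, wval im w' = (wval im w)⁻¹) [Finite K] :
    Finite (Subgroup.closure {g | ∃ w ∈ ws, wval im w = g}) ∧
      Nat.card (Subgroup.closure {g | ∃ w ∈ ws, wval im w = g}) ≤ cs.length * Nat.card K := by
  simp only [Cert.closedOK, Bool.and_eq_true, List.all_eq_true, decide_eq_true_eq, List.contains_iff_mem,
    Option.any_eq_true_iff_get] at hcl
  obtain ⟨⟨h0, hlet⟩, hcs⟩ := hcl
  have hold := steps_holds C im K hV hS
  have step : ∀ c ∈ cs, ∀ w ∈ ws, ∃ d ∈ cs, C.rep im c * wval im w * (C.rep im d)⁻¹ ∈ K := by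
    intro c hc w hw
    obtain ⟨hn, hall⟩ := hcs c hc
    obtain ⟨hsome, hd⟩ := hall w hw
    exact ⟨_, hd, walk_holds C im K hV hS.inv le_rfl hold w c _ hn (fun a ha => hlet w hw a ha)
      (Option.some_get hsome).symm⟩
  have cover : ∀ g ∈ Subgroup.closure {g | ∃ w ∈ ws, wval im w = g}, ∃ c ∈ cs, g * (C.rep im c)⁻¹ ∈ K := by
    intro g hg
    induction hg using Subgroup.closure_induction_right with
    | one => exact ⟨0, h0, by simp [rep_zero, K.one_mem]⟩
    | mul_right a b _ hb ih =>
      obtain ⟨w, hw, rfl⟩ := hb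
      obtain ⟨c, hc, hac⟩ := ih
      obtain ⟨d, hd, hh⟩ := step c hc w hw
      refine ⟨d, hd, ?_⟩
      convert K.mul_mem hac hh using 1
      group
    | mul_inv_cancel a b _ hb ih =>
      obtain ⟨w, hw, rfl⟩ := hb
      obtain ⟨w', hw', e⟩ := hwinv w hw
      obtain ⟨c, hc, hac⟩ := ih
      obtain ⟨d, hd, hh⟩ := step c hc w' hw'
      refine ⟨d, hd, ?_⟩
      rw [← e]
      convert K.mul_mem hac hh using 1
      group
  choose k hk hmem using fun g : (Subgroup.closure {g | ∃ w ∈ ws, wval im w = g} : Subgroup G) => cover g g.2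
  let f : (Subgroup.closure {g | ∃ w ∈ ws, wval im w = g} : Subgroup G) → Fin cs.length × K := fun g =>
    (⟨cs.idxOf (k g), List.idxOf_lt_length_of_mem (hk g)⟩, ⟨_, hmem g⟩)
  have hf : Function.Injective f := fun a b h => by
    simp only [f, Prod.mk.injEq, Fin.mk.injEq, Subtype.mk.injEq] at h
    have e := (List.idxOf_inj (hk a)).1 h.1
    rw [e] at h
    exact Subtype.ext (mul_right_cancel h.2)
  refine ⟨Finite.of_injective f hf, (Nat.card_le_card_of_injective f hf).trans ?_⟩
  rw [Nat.card_prod, Nat.card_eq_fintype_card (α := Fin cs.length), Fintype.card_fin]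

end Cfsg.Lib.CosetTable
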